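import Cfsg.Agent.TwoF.Iface

/-!
# TwoF / XS: symplectic and orthogonal groups in cross characteristic, the small rows (helper85).  Plan: `notes/TwoF/xs.md`
-/

set_option autoImplicit false

namespace Cfsg.Agent.TwoF.XS

/-- `p = 2`, `q` odd -/
def P2 : Prop :=
  ∀ (F : Type) [Field F] [Fintype F] (m : ℕ),
    (m = 2 ∧ (Fintype.card F = 5 ∨ Fintype.card F = 7 ∨ Fintype.card F = 9 ∨ Fintype.card F = 11)) ∨
      (m = 3 ∧ (Fintype.card F = 3 ∨ Fintype.card F = 5)) ∨ ((m = 4 ∨ m = 5) ∧ Fintype.card F = 3) →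
    Row 2 (PSp m F)

/-- `Sp₆(2)`, `p = 3` -/
def Sp62 : Prop := ∀ (F : Type) [Field F] [Fintype F], Fintype.card F = 2 → Row88 3 (PSp 3 F)

/-- `Sp₈(2)`, ..., `Sp₁₄(2)` -/
def Sp2 : Prop :=
  ∀ (p : ℕ) [Fact p.Prime] (F : Type) [Field F] [Fintype F] (m : ℕ), Fintype.card F = 2 → 4 ≤ m → m ≤ 7 →
    p = 3 ∨ p = 5 → Row88 p (PSp m F)

/-- `p = 5`, Sylow subgroups of order `25` -/
def Five : Prop :=
  ∀ (p : ℕ) [Fact p.Prime] (F : Type) [Field F] [Fintype F], p = 5 →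
    (Fintype.card F = 4 ∨ Fintype.card F = 7 → Row88 p (PSp 2 F)) ∧ (Fintype.card F = 3 → Row88 p (PSp 4 F)) ∧
      (Fintype.card F = 2 → Row88 p (POmega F (quadFormPlus 4 F)))

/-- `Ω₈⁻(2)`, `p = 3` -/
def O8m : Prop :=
  ∀ (F : Type) [Field F] [Fintype F] (a b : F), Fintype.card F = 2 →
    (∀ z₁ z₂ : F, z₁ ^ 2 + a * z₁ * z₂ + b * z₂ ^ 2 = 0 → z₁ = 0 ∧ z₂ = 0) →
      Row88 3 (POmega F (quadFormMinus 3 F a b))

/-- `Ω₈⁺(2)`, `p = 3` -/
def O8p : Prop := ∀ (F : Type) [Field F] [Fintype F], Fintype.card F = 2 → Row 3 (POmega F (quadFormPlus 4 F))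

/-- `Ω₇(3)`, `p = 2` -/
def O73 : Prop := ∀ (F : Type) [Field F] [Fintype F], Fintype.card F = 3 → Row 2 (POmega F (quadFormOdd 3 F))

/-- the small rows -/
structure Small : Prop where
  p2 : P2
  sp62 : Sp62
  sp2 : Sp2
  five : Five
  o8m : O8m
  o8p : O8p
  o73 : O73

/-- the four boxes -/
structure Four : Prop where
  psp : Box fun K _ => IsPSp K
  oodd : Box fun K _ => IsPOmegaOdd K
  oplus : Box fun K _ => IsPOmegaPlus K
  ominus : Box fun K _ => IsPOmegaMinus K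

/-- the reduction -/
def Red : Prop := Small → Four

end Cfsg.Agent.TwoF.XS
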