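import Cfsg.Agent.TwoF.XE.Lo

/-!
# TwoF / XS: tools for groups without covers (`Zc p S 1`), averaging over a coset (helper85)
-/

set_option autoImplicit false

namespace Cfsg.Agent.TwoF.XS

open Module Gen Subgroup XE

section avg

variable {k : Type*} [Field k] {Y : Type*} [Group Y] {V : Type*} [AddCommGroup V] [Module k V]
  {ρ : Representation k Y V} [FiniteDimensional k V] [Finite Y]

/-- the elements of `R` outside `Z` are expensive on average -/
theorem avg_coset {Z R : Subgroup Y} {r : ℕ} (hr : r.Prime) (hk : (r : k) ≠ 0) (hZ : Z < R)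
    (hc : ∀ a ∈ R, ∀ b ∈ R, a * b = b * a) (he : ∀ g ∈ R, g ^ r = 1) {c : ℕ}
    (h : ∀ g ∈ R, g ∉ Z → cod ρ (zpowers g) ≤ c) : (r - 1) * cod ρ Z ≤ r * c := by
  classical
  have := Fintype.ofFinite R
  have := Fintype.ofFinite Z
  have h1 := XL.avg (ρ := ρ) (R := R) hr hk hc he
  have h2 := XL.avg (ρ := ρ) (R := Z) hr hk (fun a ha b hb => hc a (hZ.le ha) b (hZ.le hb)) fun g hg => he g (hZ.le hg)
  have h3 : ∑ g ∈ (Finset.univ.filter fun g : R => (g : Y) ∈ Z), cod ρ (zpowers ((g : R) : Y)) =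
      ∑ g : Z, cod ρ (zpowers (g : Y)) :=
    (Finset.sum_bij (fun (g : Z) _ => (⟨g, hZ.le g.2⟩ : R)) (fun g _ => by simp)
      (fun a _ b _ e => Subtype.ext (congrArg (fun x : R => (x : Y)) e))
      (fun g hg => ⟨⟨g, (Finset.mem_filter.1 hg).2⟩, Finset.mem_univ _, rfl⟩) fun _ _ => rfl).symm
  have h4 : (Finset.univ.filter fun g : R => (g : Y) ∈ Z).card = Nat.card Z := by
    rw [Nat.card_eq_fintype_card, ← Finset.card_univ]
    exact (Finset.card_bij (fun (g : Z) _ => (⟨g, hZ.le g.2⟩ : R)) (fun g _ => by simp)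
      (fun a _ b _ e => Subtype.ext (congrArg (fun x : R => (x : Y)) e))
      (fun g hg => ⟨⟨g, (Finset.mem_filter.1 hg).2⟩, Finset.mem_univ _, rfl⟩)).symm
  have h5 := Finset.sum_filter_add_sum_filter_not Finset.univ (fun g : R => (g : Y) ∈ Z)
    fun g : R => cod ρ (zpowers (g : Y))
  have h6 := Finset.card_filter_add_card_filter_not (s := Finset.univ) fun g : R => (g : Y) ∈ Z
  set n := (Finset.univ.filter fun g : R => ¬ (g : Y) ∈ Z).card with hn
  have h7 : ∑ g ∈ (Finset.univ.filter fun g : R => ¬ (g : Y) ∈ Z), cod ρ (zpowers ((g : R) : Y)) ≤ n * c :=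
    Finset.sum_le_card_nsmul _ _ _ fun g hg => h g g.2 (Finset.mem_filter.1 hg).2
  have h8 : 0 < n := by
    obtain ⟨g, hg, hg'⟩ := SetLike.exists_of_lt hZ
    exact Finset.card_pos.2 ⟨⟨g, hg⟩, Finset.mem_filter.2 ⟨Finset.mem_univ _, hg'⟩⟩
  rw [h4, Finset.card_univ, ← Nat.card_eq_fintype_card] at h6
  rw [← h5, h3, mul_add, h2, ← h6] at h1
  have h9 : (r - 1) * (Nat.card Z + n) * cod ρ Z ≤ (r - 1) * (Nat.card Z + n) * cod ρ R :=
    Nat.mul_le_mul_left _ (cod_mono hZ.le)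
  have h10 := Nat.mul_le_mul_left r h7
  refine Nat.le_of_mul_le_mul_left ?_ h8
  have e1 : (r - 1) * (Nat.card Z + n) * cod ρ Z = (r - 1) * Nat.card Z * cod ρ Z + n * ((r - 1) * cod ρ Z) := by ring
  have e2 : r * (n * c) = n * (r * c) := by ring
  omega

end avg

variable {p : ℕ} [Fact p.Prime] {S : Type} [Group S]

theorem exists_iota (hz : Zc p S 1) {Y : Type} [Group Y] [Finite Y] {V : Type} [AddCommGroup V] [Module (ZMod p) V]
    {K : Subgroup Y} {ρ : Representation (ZMod p) Y V} {π : K →* S} {φ : Y →* MulAut S} (H : Sit p K ρ π φ) :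
    ∃ ι : S →* Y, Function.Injective φ ∧ Function.Injective ι ∧ (∀ s, φ (ι s) = MulAut.conj s) ∧
      ∀ y s, y * ι s * y⁻¹ = ι (φ y s) := by
  have h1 : π.ker = ⊥ :=
    card_eq_one.1 (Nat.dvd_one.1 (hz K π (H.toFrm.stem H.toStp.perfect) (by rw [H.ker_π]; exact H.cop)))
  have h2 : Function.Injective φ := by
    rw [← MonoidHom.ker_eq_bot_iff, H.ker_φ, H.toStp.centralizer_eq, ← H.ker_π, h1, Subgroup.map_bot]
  let e := MulEquiv.ofBijective π ⟨(MonoidHom.ker_eq_bot_iff π).1 h1, H.surj⟩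
  have h3 : ∀ s, φ ((K.subtype.comp e.symm.toMonoidHom) s) = MulAut.conj s := fun s => by
    have := H.toFrm.φ_coe (e.symm s)
    rwa [show π (e.symm s) = s from e.apply_symm_apply s] at this
  refine ⟨K.subtype.comp e.symm.toMonoidHom, h2, Subtype.val_injective.comp e.symm.injective, h3, fun y s => h2 ?_⟩
  rw [map_mul, map_mul, map_inv, h3, h3, conj_apply]

/-- a bound for all faithful representations of `S` -/
theorem lo_of_rep (hz : Zc p S 1) {G : Type*} [Group G] (f : G →* S) {B : Subgroup G} {n : ℕ}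
    (h : ∀ (V : Type) [AddCommGroup V] [Module (ZMod p) V] [Finite V] (σ : Representation (ZMod p) S V),
      Function.Injective σ → n ≤ cod (σ.comp f : Representation (ZMod p) G V) B) :
    Lo p ((B.map f).map MulAut.conj) n := fun Y _ _ V _ _ _ K ρ π φ H A hA => by
  obtain ⟨ι, h1, h2, h3, -⟩ := exists_iota hz H
  refine (h V (ρ.comp ι) (H.faithful.comp h2)).trans ?_
  rw [cod_comp, cod_comp]
  refine cod_mono ?_
  rintro _ ⟨s, hs, rfl⟩
  obtain ⟨a, ha, e⟩ := hA ⟨s, hs, rfl⟩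
  rwa [← h1 (e.trans (h3 s).symm)]

theorem li_of_rep (hz : Zc p S 1) {G : Type*} [Group G] (f : G →* S) {x : G} {n : ℕ}
    (h : ∀ (V : Type) [AddCommGroup V] [Module (ZMod p) V] [Finite V] (σ : Representation (ZMod p) S V),
      Function.Injective σ → n ≤ cod (σ.comp f : Representation (ZMod p) G V) (zpowers x)) : Li p (f x) n := by
  have := lo_of_rep hz f h
  rwa [MonoidHom.map_zpowers, MonoidHom.map_zpowers] at this

/-- `α` of order `p` normalises the abelian `p'`-group `R`, and `B` is generated by commutators -/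
theorem le_of_rad (hz : Zc p S 1) {R B : Subgroup S} (hc : ∀ a ∈ R, ∀ b ∈ R, a * b = b * a) (hR : ¬ p ∣ Nat.card R)
    {α : MulAut S} (hα : α ^ p = 1) (hn : ∀ x ∈ R, α x ∈ R)
    (hB : ∀ H : Subgroup S, (∀ x ∈ R, α x * x⁻¹ ∈ H) → B ≤ H) {n c : ℕ} (h : Lo p (B.map MulAut.conj) n)
    (hlt : p * (c - 1) < (p - 1) * n) : Le p α c := le_of_elt fun Y _ _ V _ _ _ K ρ π φ H y hy => by
  obtain ⟨ι, h1, h2, h3, h4⟩ := exists_iota hz H
  have h5 : n ≤ cod ρ (B.map ι) := h Y V K ρ π φ H _ (by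
    rintro _ ⟨s, hs, rfl⟩
    exact ⟨ι s, ⟨s, hs, rfl⟩, h3 s⟩)
  have h6 := XL.cod_comm_le (ρ := ρ) (R := R.map ι) (B := B.map ι) (a := y) (s := p) (n := 1)
    (by
      rintro _ ⟨a, ha, rfl⟩ _ ⟨b, hb, rfl⟩
      rw [← map_mul, hc a ha b hb, map_mul])
    (by
      rw [card_map_of_injective h2]
      exact fun e => hR ((ZMod.natCast_eq_zero_iff _ _).1 e))
    (h1 (by rw [pow_one, map_pow, hy, hα, map_one]))
    (by
      rintro _ ⟨a, ha, rfl⟩
      rw [h4, hy]
      exact ⟨_, hn a ha, rfl⟩)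
    fun L hL => map_le_iff_le_comap.2 (hB _ fun x hx => by
      have := hL _ ⟨x, hx, rfl⟩
      rwa [h4, hy, ← map_inv, ← map_mul] at this)
  by_contra h7
  have h8 : p * cod ρ (zpowers y) ≤ p * (c - 1) := Nat.mul_le_mul_left _ (by omega)
  have h9 : (p - 1) * n ≤ (p - 1) * cod ρ (B.map ι) := Nat.mul_le_mul_left _ h5
  omega

/-- an involution that inverts an abelian group of odd exponent -/
theorem le_of_inverts {S : Type} [Group S] (hz : Zc 2 S 1) {R : Subgroup S} [Finite R]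
    (hc : ∀ a ∈ R, ∀ b ∈ R, a * b = b * a) {r : ℕ} (hr : Odd r) (he : ∀ x ∈ R, x ^ r = 1) {α : MulAut S}
    (hα : α ^ 2 = 1) (hn : ∀ x ∈ R, α x = x⁻¹) {n c : ℕ} (h : Lo 2 (R.map MulAut.conj) n) (hlt : 2 * (c - 1) < n) :
    Le 2 α c := by
  refine le_of_rad hz hc (fun h2 => ?_) hα (fun x hx => by rw [hn x hx]; exact inv_mem hx) (fun H hH x hx => ?_) h
    (by omega)
  · obtain ⟨x, hx⟩ := exists_prime_orderOf_dvd_card' 2 h2
    have h3 : 2 ∣ r := hx ▸ orderOf_dvd_of_pow_eq_one (Subtype.ext (he x x.2))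
    exact (Nat.not_even_iff_odd.2 hr) (even_iff_two_dvd.2 h3)
  · obtain ⟨j, rfl⟩ := hr
    have h1 := hH x hx
    rw [hn x hx, ← mul_inv_rev, inv_mem_iff, ← pow_two] at h1
    have h2 : x = ((x ^ 2) ^ j)⁻¹ := by
      rw [eq_inv_iff_mul_eq_one, ← pow_mul, ← pow_succ']
      exact he x hx
    rw [h2]
    exact inv_mem (pow_mem h1 j)

end Cfsg.Agent.TwoF.XS
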